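import Mathlib
import Groth.Agent.GrSegreLib.Dim
import Groth.Agent.GrSegreLib.Torsion

/-!
# The dimension drops by one along covering primes of affine domains
-/

open MvPolynomial

namespace Groth.Agent.AffineDim

universe u v

variable {k : Type u} [Field k]

theorem le_ringKrullDim_quotient_span_singleton {m : ℕ} {f : MvPolynomial (Fin (m + 1)) k} {i : Fin (m + 1)}
    (hi : degreeOf i f ≠ 0) :
    (m : WithBot ℕ∞) ≤ ringKrullDim (MvPolynomial (Fin (m + 1)) k ⧸ Ideal.span {f}) := by
  let z : Fin m → MvPolynomial (Fin (m + 1)) k ⧸ Ideal.span {f} :=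
    fun j => Ideal.Quotient.mkₐ k _ (X (i.succAbove j))
  refine GrSegreLib.le_ringKrullDim_of_algIndep (k := k) (z := z) ?_
  rw [algebraicIndependent_iff_injective_aeval, injective_iff_map_eq_zero]
  intro G hG
  have h1 : aeval z G = Ideal.Quotient.mkₐ k (Ideal.span {f}) (rename i.succAbove G) := by
    rw [← AlgHom.comp_apply]
    exact DFunLike.congr_fun (algHom_ext (f := aeval z)
      (g := (Ideal.Quotient.mkₐ k _).comp (rename i.succAbove)) fun j => by simp [z]) G
  rw [h1, Ideal.Quotient.mkₐ_eq_mk, Ideal.Quotient.eq_zero_iff_dvd] at hG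
  by_contra hG0
  have hr : rename i.succAbove G ≠ 0 := fun h =>
    hG0 (rename_injective _ Fin.succAbove_right_injective (h.trans (map_zero _).symm))
  obtain ⟨c, hc⟩ := hG
  have hf : f ≠ 0 := fun h => by simp [h] at hi
  have hc0 : c ≠ 0 := fun h => hr (by rw [hc, h, mul_zero])
  have h2 := degreeOf_mul_eq (n := i) hf hc0
  rw [← hc] at h2
  have h3 : degreeOf i (rename i.succAbove G) = 0 := by
    classical
    by_contra h
    have hmem : i ∈ (rename i.succAbove G).vars := by
      rw [vars_def, Multiset.mem_toFinset, ← Multiset.count_ne_zero]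
      simpa [degreeOf_def] using h
    obtain ⟨j, -, hj⟩ := Finset.mem_image.1 (vars_rename i.succAbove G hmem)
    exact Fin.succAbove_ne i j hj
  omega

/-- In an affine domain, a minimal nonzero prime cuts the dimension by one. -/
theorem ringKrullDim_quotient_add_one {A : Type v} [CommRing A] [IsDomain A] [Algebra k A]
    [Algebra.FiniteType k A] {P : Ideal A} [hP : P.IsPrime] (hP0 : P ≠ ⊥)
    (hmin : ∀ Q : Ideal A, Q.IsPrime → Q < P → Q = ⊥) :
    ringKrullDim (A ⧸ P) + 1 = ringKrullDim A := by
  classical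
  refine le_antisymm ?_ ?_
  · exact (GrSegreLib.ringKrullDim_quotient_succ_le (p := ⊥) (bot_lt_iff_ne_bot.2 hP0)).trans
      (ringKrullDim_eq_of_ringEquiv (RingEquiv.quotientBot A)).le
  obtain ⟨s, g, hg, hint⟩ := exists_integral_inj_algHom_of_fg k A
  algebraize [g.toRingHom]
  haveI : Algebra.IsIntegral (MvPolynomial (Fin s) k) A := ⟨hint⟩
  haveI : FaithfulSMul (MvPolynomial (Fin s) k) A := (faithfulSMul_iff_algebraMap_injective _ _).2 hg
  set q := P.under (MvPolynomial (Fin s) k) with hq
  have hq0 : q ≠ ⊥ := Ideal.IsIntegral.comap_ne_bot (R := MvPolynomial (Fin s) k) hP0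
  obtain ⟨f, hfq, hfp⟩ := (inferInstance : q.IsPrime).exists_mem_prime_of_ne_bot hq0
  haveI : (Ideal.span {f}).IsPrime := (Ideal.span_singleton_prime hfp.ne_zero).2 hfp
  have hqf : Ideal.span {f} = q := by
    by_contra hne
    haveI : P.LiesOver q := ⟨rfl⟩
    obtain ⟨Q, hQ, hQp, hQl⟩ := Ideal.exists_ideal_lt_liesOver_of_lt (p := Ideal.span {f}) (q := q) P
      (lt_of_le_of_ne ((Ideal.span_singleton_le_iff_mem _).2 hfq) hne)
    have h0 : Ideal.span {f} = (⊥ : Ideal (MvPolynomial (Fin s) k)) := by
      rw [hQl.over, hmin Q hQp hQ, Ideal.under_def, Ideal.comap_bot_of_injective]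
      exact hg
    exact hfp.ne_zero (Ideal.span_singleton_eq_bot.1 h0)
  have hA : ringKrullDim A = s := by
    rw [← GrSegreLib.ringKrullDim_eq_of_integral_injective g.toRingHom hg hint,
      ringKrullDim_of_isNoetherianRing, ringKrullDim_eq_zero_of_field]
    simp
  have hP' : ringKrullDim (MvPolynomial (Fin s) k ⧸ q) = ringKrullDim (A ⧸ P) := by
    refine GrSegreLib.ringKrullDim_eq_of_integral_injective
      (Ideal.quotientMap P (algebraMap (MvPolynomial (Fin s) k) A) le_rfl) Ideal.quotientMap_injective ?_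
    refine RingHom.IsIntegral.tower_top (Ideal.Quotient.mk q) _ ?_
    rw [Ideal.quotientMap_comp_mk]
    exact RingHom.IsIntegral.trans _ _ hint (RingHom.isIntegral_of_surjective _ Ideal.Quotient.mk_surjective)
  obtain ⟨i, hi⟩ : ∃ i, degreeOf i f ≠ 0 := by
    by_contra h
    push Not at h
    refine hfp.not_isUnit ?_
    have hC : f = C (coeff 0 f) := by
      ext d
      rw [coeff_C]
      split_ifs with hd
      · rw [hd]
      · by_contra hd'
        refine hd (Finsupp.ext fun j => ?_)
        simpa [eq_comm] using degreeOf_le_iff.1 (h j).le d (mem_support_iff.2 hd')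
    rw [hC]
    refine IsUnit.map C (Ne.isUnit fun h0 => hfp.ne_zero ?_)
    rw [hC, h0, map_zero]
  obtain ⟨m, rfl⟩ : ∃ m, s = m + 1 := ⟨s - 1, by have := i.2; omega⟩
  rw [← hP', ← hqf, hA, Nat.cast_succ]
  exact add_le_add_left (le_ringKrullDim_quotient_span_singleton hi) 1

/-- Along a saturated chain of primes from zero the dimension drops by one at each step. -/
theorem ringKrullDim_quotient_add_of_saturated {A : Type v} [CommRing A] [IsDomain A] [Algebra k A]
    [Algebra.FiniteType k A] (c : LTSeries (PrimeSpectrum A)) (h0 : c.head.asIdeal = ⊥)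
    (hsat : ∀ i : Fin c.length, c i.castSucc ⋖ c i.succ) (j : ℕ) :
    ∀ hj : j < c.length + 1, ringKrullDim (A ⧸ (c ⟨j, hj⟩).asIdeal) + j = ringKrullDim A := by
  induction j with
  | zero =>
    intro hj
    rw [show c ⟨0, hj⟩ = c.head from rfl, h0, Nat.cast_zero, add_zero]
    exact ringKrullDim_eq_of_ringEquiv (RingEquiv.quotientBot A)
  | succ j ih =>
    intro hj
    have hlt := hsat ⟨j, by omega⟩
    simp only [Fin.castSucc_mk, Fin.succ_mk] at hlt
    set p := c ⟨j, by omega⟩ with hp
    set q := c ⟨j + 1, hj⟩ with hq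
    have hle : p.asIdeal ≤ q.asIdeal := hlt.le
    haveI : Algebra.FiniteType k (A ⧸ p.asIdeal) := inferInstance
    let P : Ideal (A ⧸ p.asIdeal) := q.asIdeal.map (Ideal.Quotient.mk p.asIdeal)
    haveI : P.IsPrime := Ideal.map_isPrime_of_surjective Ideal.Quotient.mk_surjective (by
      rwa [Ideal.mk_ker])
    have hcomap : P.comap (Ideal.Quotient.mk p.asIdeal) = q.asIdeal :=
      Ideal.comap_map_of_surjective' _ Ideal.Quotient.mk_surjective q.asIdeal |>.trans (by
        rw [Ideal.mk_ker, sup_eq_left.2 hle])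
    have key := ringKrullDim_quotient_add_one (k := k) (A := A ⧸ p.asIdeal) (P := P) (fun h => ?_)
      (fun Q hQ hQlt => ?_)
    · rw [ringKrullDim_eq_of_ringEquiv (DoubleQuot.quotQuotEquivQuotOfLE hle)] at key
      rw [← ih (by omega), ← key, Nat.cast_succ, add_assoc, add_comm (1 : WithBot ℕ∞)]
    · refine hlt.lt.ne (PrimeSpectrum.ext ?_)
      rw [← hcomap, h]
      exact Ideal.mk_ker.symm
    · have h1 : (⟨Q.comap (Ideal.Quotient.mk p.asIdeal), Ideal.IsPrime.comap _⟩ : PrimeSpectrum A) < q := by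
        show Q.comap (Ideal.Quotient.mk p.asIdeal) < q.asIdeal
        rw [← hcomap]
        exact (Ideal.orderEmbeddingOfSurjective _ Ideal.Quotient.mk_surjective).strictMono hQlt
      have h2 : p.asIdeal ≤ Q.comap (Ideal.Quotient.mk p.asIdeal) := by
        conv_lhs => rw [← Ideal.mk_ker (I := p.asIdeal)]
        exact Ideal.comap_mono bot_le
      rcases (hlt.eq_or_eq (c := ⟨Q.comap (Ideal.Quotient.mk p.asIdeal), Ideal.IsPrime.comap _⟩) h2 h1.le) with h | h
      · rw [← Ideal.map_comap_of_surjective _ Ideal.Quotient.mk_surjective Q,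
          show Q.comap (Ideal.Quotient.mk p.asIdeal) = p.asIdeal from congrArg PrimeSpectrum.asIdeal h,
          Ideal.map_quotient_self]
      · exact absurd h h1.ne

end Groth.Agent.AffineDim
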